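import Cfsg.Agent.Lib.H17.J2PGlue
import Cfsg.Agent.Lib.H17.CosetPerm3

set_option autoImplicit false
set_option maxRecDepth 100000

/-! # Permutation tables of the coset enumeration J2P100 (generated) -/

namespace Cfsg.Agent.Lib.H17.J2P100

open Cfsg.Spor Cfsg.Agent.Lib.H17.CosetCert Cfsg.Agent.Lib.H17.CoxGlue Cfsg.Agent.Lib.H17.J2PGlue

/-- the table of generator a -/
def tab0 : ℕ := 0xc78ade0b17ab53c342cdfaf7674cb9268da85560547b2a9368f19d3f873d74d88b25a87715caa6f20e3446915b04504b3e62e0a3c22992b266bd099304ceb5143901f1ab43293c153840668b880e6c10c16549101e24001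

/-- the table of generator b -/
def tab1 : ℕ := 0xc37f1dac556edcad827d39b6ef54b14a2ccb326bd096f27486ace8c462f60b674fa14a4efd1383d0239b8cca1985cbd69f288d4a0764079154e46a858dc58c6868cb02c5caab0a492264a1109c3a044880c1c98e040c500

/-- the table of generator c -/
def tab2 : ℕ := 0xc58eddead82c5cc342cddaf7e64ea74a8da8351f55792a4b58f1993186ba7ac573544b7691c9e6e7241d351623041096c07e4d3bd52990ba1c652af18e1a3614cd1081258a915440a12068c11f026cb9800182051e34587

/-- the table of generator d -/
def tab3 : ℕ := 0xc58efd9c35ee5db13f05bbd4e6cbad22342b502abda8edb5269459b861416ce54a6627948d0c43b24dc78a64c432e5a0943efdf1178953207435ca4562db8a6a259315eb892c0e5540f20091013c70d0026143030838608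

/-- the table of generator e -/
def tab4 : ℕ := 0xc17ad63ab8aa52a186bceb332fdd937235b9b627d6911e9cb95459b86f01f425505b354c8d84486f5e258a68f393eb0aae26fc91c20eda0e7460e8c5ec50a81ec84220e1968556a422736905a01a0c0192e58a111404109

/-- ranks for connectivity -/
def gr : ℕ := 0xc78b0e0bf7aed4b96ed58ad66bd59f2a3d2a33a6d09721fbb72e1bb6691a2be670a03ca70daab52992234484f9e3ac982c386e2279925d2d5c815162a4c9101e3868c1668c3114be0bd4a5ca070c142030424ca82220080

/-- all generator tables -/
def tabs : List ℕ := [tab0, tab1, tab2, tab3, tab4]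

/-- tables of relator word 0 -/
def relT0 : List ℕ := [tab0, tab1, tab0, tab1, tab0, tab1, tab0, tab1, tab0, tab1]

/-- tables of relator word 1 -/
def relT1 : List ℕ := [tab0, tab2, tab0, tab2]

/-- tables of relator word 2 -/
def relT2 : List ℕ := [tab0, tab3, tab0, tab3]

/-- tables of relator word 3 -/
def relT3 : List ℕ := [tab0, tab4, tab0, tab4]

/-- tables of relator word 4 -/
def relT4 : List ℕ := [tab1, tab2, tab1, tab2, tab1, tab2]

/-- tables of relator word 5 -/
def relT5 : List ℕ := [tab1, tab3, tab1, tab3]

/-- tables of relator word 6 -/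
def relT6 : List ℕ := [tab1, tab4, tab1, tab4]

/-- tables of relator word 7 -/
def relT7 : List ℕ := [tab2, tab3, tab2, tab3, tab2, tab3, tab2, tab3, tab2, tab3, tab2, tab3, tab2, tab3, tab2, tab3]

/-- tables of relator word 8 -/
def relT8 : List ℕ := [tab2, tab4, tab2, tab4]

/-- tables of relator word 9 -/
def relT9 : List ℕ := [tab3, tab4, tab3, tab4, tab3, tab4]

/-- tables of relator word 10 -/
def relT10 : List ℕ := [tab0, tab3, tab2, tab3, tab2, tab3, tab2, tab3, tab2]

/-- tables of relator word 11 -/
def relT11 : List ℕ := [tab1, tab2, tab3, tab2, tab3, tab1, tab2, tab3, tab2, tab3, tab1, tab2, tab3, tab2, tab3, tab1, tab2, tab3, tab2, tab3, tab1, tab2, tab3, tab2, tab3, tab4, tab1, tab2, tab3, tab2, tab3, tab1, tab2, tab3, tab2, tab3, tab1, tab2, tab3, tab2, tab3, tab1, tab2, tab3, tab2, tab3, tab1, tab2, tab3, tab2, tab3, tab4, tab1, tab2, tab3, tab2, tab3, tab1, tab2, tab3, tab2, tab3, tab1, tab2, tab3, tab2, tab3, tab1, tab2, tab3, tab2, tab3, tab1, tab2, tab3, tab2, tab3, tab4]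

/-- tables of relator word 12 -/
def relT12 : List ℕ := [tab0, tab0]

/-- tables of relator word 13 -/
def relT13 : List ℕ := [tab1, tab1]

/-- tables of relator word 14 -/
def relT14 : List ℕ := [tab2, tab2]

/-- tables of relator word 15 -/
def relT15 : List ℕ := [tab3, tab3]

/-- tables of relator word 16 -/
def relT16 : List ℕ := [tab4, tab4]

/-- tables of relator word 17 -/
def relT17 : List ℕ := []

/-- tables of all relator words -/
def relT : List (List ℕ) := [relT0, relT1, relT2, relT3, relT4, relT5, relT6, relT7, relT8, relT9, relT10, relT11, relT12, relT13, relT14, relT15, relT16, relT17]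

/-- tables of subgroup generator 0 -/
def sgT0 : List ℕ := [tab0, tab4, tab1, tab3, tab2, tab3, tab1, tab2, tab1]

/-- tables of subgroup generator 1 -/
def sgT1 : List ℕ := [tab1]

/-- tables of all subgroup generators -/
def sgT : List (List ℕ) := [sgT0, sgT1]

theorem sgT_ok : sgT.all (fun ts => Nat.beq (applyT 7 128 ts 0) 0) = true := by
  decide +kernel

/-- the two-level lookup -/
def L (t i : ℕ) : ℕ := lk2 7 128 256 1792 0x10000000000000000000000000000000000000000000000000000000000000000000000000000000000000000000000000000000000000000000000000000000000000000000000000000000000000000000000000000000000000000000000000000000000000000000000000000000000000000000000000000000000000000000000000000000000000000000000000000000000000000000000000000000000000000000000000000000000000000000000000000000000000000000000000000000000000000000000000000000000000000000000000000000000000000 t i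

theorem L_eq (t i : ℕ) : L t i = lk 7 128 t i :=
  lk2_eq_lk' _ _ _ _ _ (by decide +kernel) (by decide +kernel) (by decide +kernel) (by decide) t i

theorem applyL_eq (ts : List ℕ) (i : ℕ) : applyTG L ts i = applyT 7 128 ts i :=
  applyTG_eq L _ _ L_eq ts i

end Cfsg.Agent.Lib.H17.J2P100
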