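import Cfsg.Agent.Lib.H17.J2P100.StepsA
import Cfsg.Agent.Lib.H17.J2P100.Rows

set_option autoImplicit false
set_option maxRecDepth 100000

/-! # Upper bound for the index, J2P100 (generated) -/

namespace Cfsg.Agent.Lib.H17.J2P100

open Cfsg.Spor Cfsg.Agent.Lib.H17.CosetCert Cfsg.Agent.Lib.H17.CoxGlue Cfsg.Agent.Lib.H17.J2PGlue

/-- the presented group -/
abbrev G : Type := PresentedGroup rels

/-- the subgroup generators as words -/
abbrev S : Set (FreeGroup Gen) :=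
  {(Cfsg.Agent.Lib.H17.J2Pres.a * Cfsg.Agent.Lib.H17.J2Pres.e * Cfsg.Agent.Lib.H17.J2Pres.b * Cfsg.Agent.Lib.H17.J2Pres.d * Cfsg.Agent.Lib.H17.J2Pres.c * Cfsg.Agent.Lib.H17.J2Pres.d * Cfsg.Agent.Lib.H17.J2Pres.b * Cfsg.Agent.Lib.H17.J2Pres.c * Cfsg.Agent.Lib.H17.J2Pres.b) ^ 1, Cfsg.Agent.Lib.H17.J2Pres.b}

/-- the subgroup -/
abbrev H : Subgroup G := (Subgroup.closure S).map (PresentedGroup.mk rels)

/-- the generator images -/
noncomputable def γ (x : ℕ) : G := PresentedGroup.of (gen x)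

theorem γ_mul_self (x : ℕ) : γ x * γ x = 1 := of_mul_self _

/-- letters of subgroup generator 0 -/
def sgL0 : List (Gen × Bool) := [(.a, true), (.e, true), (.b, true), (.d, true), (.c, true), (.d, true), (.b, true), (.c, true), (.b, true)]

theorem sg0_eq : ((Cfsg.Agent.Lib.H17.J2Pres.a * Cfsg.Agent.Lib.H17.J2Pres.e * Cfsg.Agent.Lib.H17.J2Pres.b * Cfsg.Agent.Lib.H17.J2Pres.d * Cfsg.Agent.Lib.H17.J2Pres.c * Cfsg.Agent.Lib.H17.J2Pres.d * Cfsg.Agent.Lib.H17.J2Pres.b * Cfsg.Agent.Lib.H17.J2Pres.c * Cfsg.Agent.Lib.H17.J2Pres.b) ^ 1 : FreeGroup Gen) = FreeGroup.mk sgL0 := by rfl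

theorem sg0_mem : ((Cfsg.Agent.Lib.H17.J2Pres.a * Cfsg.Agent.Lib.H17.J2Pres.e * Cfsg.Agent.Lib.H17.J2Pres.b * Cfsg.Agent.Lib.H17.J2Pres.d * Cfsg.Agent.Lib.H17.J2Pres.c * Cfsg.Agent.Lib.H17.J2Pres.d * Cfsg.Agent.Lib.H17.J2Pres.b * Cfsg.Agent.Lib.H17.J2Pres.c * Cfsg.Agent.Lib.H17.J2Pres.b) ^ 1 : FreeGroup Gen) ∈ S := by
  simp [S]

/-- letters of subgroup generator 1 -/
def sgL1 : List (Gen × Bool) := [(.b, true)]

theorem sg1_eq : (Cfsg.Agent.Lib.H17.J2Pres.b : FreeGroup Gen) = FreeGroup.mk sgL1 := by rfl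

theorem sg1_mem : (Cfsg.Agent.Lib.H17.J2Pres.b : FreeGroup Gen) ∈ S := by
  simp [S]

theorem mk_mk (L : List (Gen × Bool)) : PresentedGroup.mk rels (FreeGroup.mk L) =
    ((L.map Prod.fst).map (PresentedGroup.of (rels := rels))).prod := by
  rw [mk_eq_lift, lift_mk_of_invol _ of_mul_self]

theorem sgW_mem : ∀ v ∈ sgW, (v.map γ).prod ∈ H := by
  intro v hv
  obtain ⟨t, ht, rfl⟩ := List.getElem_of_mem hv
  have ht' : t < 2 := ht
  interval_cases t
  · have h1 : PresentedGroup.mk rels (FreeGroup.mk sgL0) ∈ H :=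
      Subgroup.mem_map_of_mem _ (Subgroup.subset_closure (sg0_eq ▸ sg0_mem))
    rw [mk_mk] at h1
    exact h1
  · have h1 : PresentedGroup.mk rels (FreeGroup.mk sgL1) ∈ H :=
      Subgroup.mem_map_of_mem _ (Subgroup.subset_closure (sg1_eq ▸ sg1_mem))
    rw [mk_mk] at h1
    exact h1

theorem words_OK : WordsOK γ ((1 : G) : G ⧸ H) words := by
  intro v hv
  obtain ⟨h1, h2⟩ := words_ok v hv
  constructor
  · intro hr q
    apply act_eq_of_prod_eq_one γ γ_mul_self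
    have := relW_trivial _ (h1 hr)
    rw [List.map_map] at this
    exact this
  · intro hr
    have hmem := sgW_mem _ (h2 hr)
    rw [act_eq_smul, prod_reverse_of_invol γ γ_mul_self]
    have hinvmem : ((v.1.map γ).prod)⁻¹ ∈ H := inv_mem hmem
    rw [MulAction.Quotient.smul_mk, smul_eq_mul, mul_one]
    apply Quotient.sound'
    rw [QuotientGroup.leftRel_apply]
    simpa using hmem

theorem inv_all : Inv F 5 γ ((1 : G) : G ⧸ H) 472 170 := by
  have h0 := inv_zero F 5 γ ((1 : G) : G ⧸ H)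
  have h1 := checkSteps_sound F 5 16777216 γ γ_mul_self _ words words_OK steps0 0 1 170 h0 chk0
  rw [len0] at h1
  exact h1

theorem gens_top : Subgroup.closure {g : G | ∃ x < 5, g = γ x} = ⊤ := closure_gens

theorem upper : Finite (G ⧸ H) ∧ Nat.card (G ⧸ H) ≤ 100 := by
  have := card_le F 5 16777216 γ γ_mul_self _ 472 170 inv_all rows mask mask_ok mask_zero rows_ok gens_top
  rw [rows_length] at this
  exact this

end Cfsg.Agent.Lib.H17.J2P100
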